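import Cfsg.Agent.PQBlocks.Normalize
import Cfsg.Agent.RealPDegree.Main
import Cfsg.Agent.PrincipalBlock.Kernel
import Cfsg.Agent.Coprime.SchurZassenhaus
import Cfsg.Agent.PLocal.Constraint

/-!
# `p'`-degrees of principal block characters and commuting Sylow subgroups

For a `p`- and `q`-solvable group: the irreducible characters trivial on `O_{p'}(G)` of `p'`-degree
have `q'`-degree, and symmetrically, if and only if some Sylow `p`-subgroup centralizes some Sylow
`q`-subgroup.
-/

set_option autoImplicit false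
set_option linter.style.haveILetI false
set_option linter.unusedSectionVars false

namespace CfsgLib.PQBlocks

open CfsgLib.Characters CfsgLib.CharactersDeep
open CfsgLib.OddOrderChar (conjBy conjBy_one conjBy_mul conjBy_apply)
open CfsgLib.PrincipalBlock (charKer mem_charKer)
open scoped Pointwise

universe u

variable {G : Type u} [Group G] [Finite G] {p q : ℕ}

/-- Characters trivial on `O_{p'}` of `p'`-degree have `q'`-degree. -/
def CoreHyp (p q : ℕ) (G : Type u) [Group G] : Prop :=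
  ∀ χ : Cfsg.IrrCharacter G,
    (∀ g ∈ Cfsg.pPrimeCore p G, (χ : G → ℂ) g = (χ : G → ℂ) 1) →
    ¬ p ∣ Cfsg.charDegree (χ : G → ℂ) → ¬ q ∣ Cfsg.charDegree (χ : G → ℂ)

theorem CoreHyp.map {H : Type u} [Group H] [Finite H] {f : G →* H} (hf : Function.Surjective f)
    (h : CoreHyp p q G) : CoreHyp p q H := fun χ hker hχ => by
  have := h ⟨fun g => (χ : H → ℂ) (f g), isIrr_comp f hf χ.2⟩
    (fun g hg => by
      show (χ : H → ℂ) (f g) = (χ : H → ℂ) (f 1)
      rw [map_one]
      exact hker _ (PLocal.map_pPrimeCore_le_of_surjective hf (Subgroup.mem_map_of_mem f hg)))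
    (by simpa [Cfsg.charDegree] using hχ)
  simpa [Cfsg.charDegree] using this

/-- The degree bound from the kernel. -/
theorem not_dvd_charDegree_of_core (hidx : ¬ q ∣ (Cfsg.pPrimeCore p G).index) : CoreHyp p q G := by
  intro χ hker _ hd
  letI : Fintype G := Fintype.ofFinite G
  obtain ⟨d, hd1, hd2⟩ := PrincipalBlock.degree_dvd_index (Cfsg.pPrimeCore p G) χ
    fun g hg => mem_charKer.2 (hker g hg)
  rw [Cfsg.charDegree, hd1, Complex.natCast_re, Nat.floor_natCast] at hd
  exact hidx (hd.trans hd2)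

/-- Commuting Sylow subgroups give the index condition. -/
theorem not_dvd_index_core [hp : Fact p.Prime] [hq : Fact q.Prime] (hpq : p ≠ q)
    (hps : Cfsg.IsPSolvable p G) (P : Sylow p G) (Q : Sylow q G)
    (h : ∀ x ∈ (P : Subgroup G), ∀ y ∈ (Q : Subgroup G), x * y = y * x) :
    ¬ q ∣ (Cfsg.pPrimeCore p G).index := by
  let π := QuotientGroup.mk' (Cfsg.pPrimeCore p G)
  have hπ : Function.Surjective π := QuotientGroup.mk'_surjective _
  have hQ : (Q : Subgroup G) ≤ Cfsg.pPrimeCore p G := by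
    intro y hy
    rw [← QuotientGroup.eq_one_iff]
    have hc : π y ∈ Cfsg.pCore p (G ⧸ Cfsg.pPrimeCore p G) := by
      refine PLocal.centralizer_pCore_le (PLocal.isPSolvable_quotient hps _)
        (PLocal.pPrimeCore_quotient_pPrimeCore_eq_bot p G) (Subgroup.mem_centralizer_iff.2 ?_)
      intro z hz
      obtain ⟨x, hx, rfl⟩ := PLocal.pCore_le_sylow (P.mapSurjective hπ) hz
      rw [← map_mul, ← map_mul, h x hx y hy]
    obtain ⟨k, hk⟩ := IsPGroup.iff_orderOf.1 (PLocal.isPGroup_pCore p _) ⟨π y, hc⟩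
    obtain ⟨l, hl⟩ := IsPGroup.iff_orderOf.1 Q.2 ⟨y, hy⟩
    rw [Subgroup.orderOf_mk] at hk hl
    refine orderOf_eq_one_iff.1 (Nat.eq_one_of_dvd_coprimes
      (Nat.Coprime.pow k l ((Nat.coprime_primes hp.1 hq.1).2 hpq)) (dvd_of_eq hk) ?_)
    rw [← hl]
    exact orderOf_map_dvd π y
  exact fun h2 => Q.not_dvd_index (h2.trans (Subgroup.index_dvd_of_le hQ))

/-- The index conditions give commuting Sylow subgroups. -/
theorem exists_commuting [hp : Fact p.Prime] [hq : Fact q.Prime] (hpq : p ≠ q)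
    (hA : ¬ q ∣ (Cfsg.pPrimeCore p G).index) (hB : ¬ p ∣ (Cfsg.pPrimeCore q G).index) :
    ∃ (P : Sylow p G) (Q : Sylow q G),
      ∀ x ∈ (P : Subgroup G), ∀ y ∈ (Q : Subgroup G), x * y = y * x := by
  set A := Cfsg.pPrimeCore p G with hAdef
  set B := Cfsg.pPrimeCore q G with hBdef
  obtain ⟨P⟩ : Nonempty (Sylow p G) := Sylow.nonempty
  obtain ⟨Q₀⟩ : Nonempty (Sylow q G) := Sylow.nonempty
  have hPB : (P : Subgroup G) ≤ B := (RealPDegree.le_pGen P.2).trans (RealPDegree.pGen_le hB)
  have hQA : (Q₀ : Subgroup G) ≤ A := (RealPDegree.le_pGen Q₀.2).trans (RealPDegree.pGen_le hA)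
  have hcomm : ∀ a ∈ A, ∀ b ∈ B, a * b * a⁻¹ * b⁻¹ ∈ A ⊓ B := fun a ha b hb => by
    refine ⟨?_, B.mul_mem ((inferInstance : B.Normal).conj_mem b hb a) (B.inv_mem hb)⟩
    rw [show a * b * a⁻¹ * b⁻¹ = a * (b * a⁻¹ * b⁻¹) by group]
    exact A.mul_mem ha ((inferInstance : A.Normal).conj_mem _ (A.inv_mem ha) b)
  set J := (Q₀ : Subgroup G) ⊔ (A ⊓ B) with hJ
  have hJA : J ≤ A := sup_le hQA inf_le_left
  have hPJ : (P : Subgroup G) ≤ Subgroup.normalizer (J : Set G) := by
    intro x hx
    have hconj : ∀ x ∈ (P : Subgroup G), ∀ z ∈ J, x * z * x⁻¹ ∈ J := by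
      intro x hx z hz
      have hz' : x * z * x⁻¹ * z⁻¹ ∈ A ⊓ B := by
        have h1 := (A ⊓ B).inv_mem (hcomm z (hJA hz) x (hPB hx))
        rwa [show (z * x * z⁻¹ * x⁻¹)⁻¹ = x * z * x⁻¹ * z⁻¹ by group] at h1
      have := J.mul_mem (Subgroup.mem_sup_right hz') hz
      rwa [inv_mul_cancel_right] at this
    refine Subgroup.mem_normalizer_iff.2 fun z => ⟨hconj x hx z, fun hz => ?_⟩
    have := hconj _ ((P : Subgroup G).inv_mem hx) _ hz
    simpa [mul_assoc] using this
  haveI : Group.IsNilpotent (P : Subgroup G) := P.2.isNilpotent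
  have hcop : (Nat.card (P : Subgroup G)).Coprime (Nat.card J) := by
    obtain ⟨n, hn⟩ := IsPGroup.iff_card.1 P.2
    rw [hn]
    exact (Nat.Coprime.coprime_dvd_left (Subgroup.card_dvd_of_le hJA)
      (PLocal.coprime_card_pPrimeCore p G)).symm.pow_left n
  obtain ⟨R, hR⟩ := Coprime.exists_invariant_sylow hPJ hcop (Or.inl inferInstance) q
  obtain ⟨t, -, htR⟩ := Coprime.exists_conj_map_sylow (Q₀.subtype le_sup_left) R
  rw [Sylow.coe_subtype, Subgroup.subgroupOf_map_subtype, inf_of_le_left le_sup_left] at htR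
  refine ⟨P, MulAut.conj t • Q₀, fun x hx y hy => ?_⟩
  rw [Sylow.pointwise_smul_def, htR] at hy
  have hy1 : x * y * x⁻¹ * y⁻¹ ∈ (R : Subgroup J).map J.subtype :=
    Subgroup.mul_mem _ ((Subgroup.mem_normalizer_iff.1 (hR hx) y).1 hy) (Subgroup.inv_mem _ hy)
  have hy2 : x * y * x⁻¹ * y⁻¹ ∈ A ⊓ B := by
    have h1 := (A ⊓ B).inv_mem (hcomm y (hJA (Subgroup.map_subtype_le _ hy)) x (hPB hx))
    rwa [show (y * x * y⁻¹ * x⁻¹)⁻¹ = x * y * x⁻¹ * y⁻¹ by group] at h1
  obtain ⟨k, hk⟩ := IsPGroup.iff_orderOf.1 (R.2.map J.subtype) ⟨_, hy1⟩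
  rw [Subgroup.orderOf_mk] at hk
  have h0 : x * y * x⁻¹ * y⁻¹ = 1 := orderOf_eq_one_iff.1 (Nat.eq_one_of_dvd_coprimes
    ((PLocal.coprime_card_pPrimeCore q G).pow_right k)
    (by rw [← Subgroup.orderOf_mk (H := B) _ hy2.2]; exact orderOf_dvd_natCard _) (dvd_of_eq hk))
  rwa [mul_inv_eq_one, mul_inv_eq_iff_eq_mul] at h0

/-- Precomposition with conjugation by `x⁻¹`. -/
def conjHom (N : Subgroup G) [N.Normal] (x : G) (f : N →* ℂˣ) : N →* ℂˣ :=
  f.comp (MulAut.conjNormal (H := N) x⁻¹).toMonoidHom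

theorem conjHom_apply (N : Subgroup G) [N.Normal] (x : G) (f : N →* ℂˣ) (n : N) :
    conjHom N x f n = f (MulAut.conjNormal x⁻¹ n) := rfl

theorem conjHom_mul (N : Subgroup G) [N.Normal] (a b : G) (f : N →* ℂˣ) :
    conjHom N (a * b) f = conjHom N a (conjHom N b f) := by
  ext n
  simp [conjHom_apply, mul_inv_rev]

theorem conjHom_one (N : Subgroup G) [N.Normal] (f : N →* ℂˣ) : conjHom N 1 f = f := by
  ext n
  simp [conjHom_apply]

/-- Homomorphisms to `ℂˣ` from a finite group of exponent dividing `p` form a finite type. -/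
theorem finite_hom {A : Type u} [Group A] [Finite A] (hp : p ≠ 0) (hexp : ∀ a : A, a ^ p = 1) :
    Finite (A →* ℂˣ) := by
  haveI : NeZero p := ⟨hp⟩
  refine Finite.of_injective (fun f a => (⟨f a, by
    rw [mem_rootsOfUnity, ← map_pow, hexp, map_one]⟩ : rootsOfUnity p ℂ)) fun f f' h => ?_
  ext a
  exact congrArg (fun z : rootsOfUnity p ℂ => ((z : ℂˣ) : ℂ)) (congrFun h a)

/-- Thompson's `P × Q`-argument on linear characters. -/
theorem fixed_of_fixed [hp : Fact p.Prime] (N : Subgroup G) [N.Normal]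
    (hexp : ∀ x ∈ N, x ^ p = 1) {P Q : Subgroup G} (hP : IsPGroup p P) (hQ : ¬ p ∣ Nat.card Q)
    (hPQ : ∀ x ∈ P, ∀ y ∈ Q, x * y = y * x)
    (h : ∀ f : N →* ℂˣ, (∀ x ∈ P, conjHom N x f = f) → ∀ y ∈ Q, conjHom N y f = f) :
    ∀ (f : N →* ℂˣ), ∀ y ∈ Q, conjHom N y f = f := by
  classical
  have hexp' : ∀ a : N, a ^ p = 1 := fun a => Subtype.ext (hexp a a.2)
  haveI := finite_hom hp.1.ne_zero hexp'
  letI : Fintype Q := Fintype.ofFinite Q
  let e : (N →* ℂˣ) → (N →* ℂˣ) := fun f => ∏ y : Q, conjHom N (y : G) f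
  have he : ∀ f n, e f n = ∏ y : Q, f (MulAut.conjNormal ((y : G))⁻¹ n) := fun f n => by
    simp [e, conjHom_apply]
  have hemul : ∀ f f', e (f * f') = e f * e f' := fun f f' => by
    ext n
    simp [he, Finset.prod_mul_distrib]
  have hey : ∀ f, ∀ y ∈ Q, e (conjHom N y f) = e f := fun f y hy =>
    Fintype.prod_equiv (Equiv.mulRight (⟨y, hy⟩ : Q)) _ _ fun z => by
      rw [← conjHom_mul]; rfl
  have hex : ∀ f, ∀ x ∈ P, e (conjHom N x f) = conjHom N x (e f) := fun f x hx => by
    ext n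
    rw [conjHom_apply, he, he]
    refine congrArg Units.val (Finset.prod_congr rfl fun y _ => ?_)
    rw [conjHom_apply]
    congr 1
    have hc : (y : G) * x = x * y := (hPQ x hx y y.2).symm
    rw [← MulAut.mul_apply, ← MulAut.mul_apply, ← map_mul, ← map_mul, ← mul_inv_rev, ← mul_inv_rev,
      hc]
  have hinj : ∀ f, e f = 1 → f = 1 := by
    intro f hf
    by_contra hne
    have he1 : e 1 = 1 := by ext n; simp [he]
    let M : Subgroup (N →* ℂˣ) :=
      { carrier := {f | e f = 1}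
        one_mem' := he1
        mul_mem' := fun {a b} (ha : e a = 1) (hb : e b = 1) => by
          show e _ = 1; rw [hemul, ha, hb]; exact one_mul (1 : N →* ℂˣ)
        inv_mem' := fun {a} (ha : e a = 1) => by
          show e _ = 1
          have h1 := hemul a a⁻¹
          exact ((one_mul (e a⁻¹)).symm.trans ((congrArg (· * e a⁻¹) ha.symm).trans h1.symm)).trans
            ((congrArg e (mul_inv_cancel a)).trans he1) }
    letI : MulAction P M :=
      { smul := fun x g => ⟨conjHom N x g.1, by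
          show e _ = 1
          rw [hex _ _ x.2, show e g.1 = 1 from g.2]
          ext n; simp [conjHom_apply]⟩
        one_smul := fun g => Subtype.ext (conjHom_one N g.1)
        mul_smul := fun x y g => Subtype.ext (conjHom_mul N x y g.1) }
    have hpow : ∀ g : N →* ℂˣ, g ^ p = 1 := fun g => by
      ext n
      rw [MonoidHom.pow_apply, ← map_pow, hexp', map_one]; rfl
    have hMp : IsPGroup p M := fun g => ⟨1, Subtype.ext (by rw [pow_one]; exact hpow g.1)⟩
    have hdvd : p ∣ Nat.card M := by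
      haveI : Nontrivial M := ⟨⟨⟨f, hf⟩, 1, fun h0 => hne (congrArg Subtype.val h0)⟩⟩
      obtain ⟨n, hn0, hn⟩ := hMp.nontrivial_iff_card.1 inferInstance
      exact hn ▸ dvd_pow_self p (ne_of_gt hn0)
    obtain ⟨g, hg, hg1⟩ := hP.exists_fixed_point_of_prime_dvd_card_of_fixed_point M hdvd (a := 1)
      (fun x => Subtype.ext (show conjHom N x 1 = 1 by ext n; simp [conjHom_apply]))
    have hQg := h g.1 fun x hx => congrArg Subtype.val (hg ⟨x, hx⟩)
    have h2 : g.1 ^ Nat.card Q = 1 := by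
      rw [← show e g.1 = 1 from g.2]
      simp only [e]
      rw [Finset.prod_congr rfl fun (y : Q) _ => hQg y y.2, Finset.prod_const, Finset.card_univ,
        Nat.card_eq_fintype_card]
    have h3 : orderOf g.1 ∣ Nat.gcd p (Nat.card Q) :=
      Nat.dvd_gcd (orderOf_dvd_of_pow_eq_one (hpow g.1)) (orderOf_dvd_of_pow_eq_one h2)
    rw [(hp.1.coprime_iff_not_dvd.2 hQ).gcd_eq_one, Nat.dvd_one, orderOf_eq_one_iff] at h3
    exact hg1 (Subtype.ext h3.symm)
  intro f y hy
  have he1 : e 1 = 1 := by ext n; simp [he]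
  have h1 : e (conjHom N y f * f⁻¹) = 1 := by
    rw [hemul, hey f y hy, ← hemul]
    exact (congrArg e (mul_inv_cancel f)).trans he1
  exact mul_inv_eq_one.1 (hinj _ h1)

theorem conj_smul_normal (N : Subgroup G) [hN : N.Normal] (g : G) : MulAut.conj g • N = N := by
  ext y
  rw [mem_conj_smul_iff]
  exact ⟨fun h => by simpa [mul_assoc] using hN.conj_mem _ h g,
    fun h => by simpa [mul_assoc] using hN.conj_mem y h g⁻¹⟩

/-- The step of the induction. -/
theorem step [hp : Fact p.Prime] [hq : Fact q.Prime] (hpq : p ≠ q) (hps : Cfsg.IsPSolvable p G)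
    (hqs : Cfsg.IsPSolvable q G) (hh : CoreHyp p q G)
    (ih : ∀ N : Subgroup G, ∀ _ : N.Normal, N ≠ ⊥ →
      ¬ q ∣ (Cfsg.pPrimeCore p (G ⧸ N)).index ∧ ¬ p ∣ (Cfsg.pPrimeCore q (G ⧸ N)).index) :
    ¬ q ∣ (Cfsg.pPrimeCore p G).index := by
  classical
  by_cases hO : Cfsg.pPrimeCore p G ≠ ⊥
  · have h := (ih _ inferInstance hO).1
    rwa [PLocal.pPrimeCore_quotient_pPrimeCore_eq_bot, Subgroup.index_bot, ← Subgroup.index] at h
  push Not at hO
  rw [hO, Subgroup.index_bot]
  intro hqG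
  haveI : Nontrivial G := Finite.one_lt_card_iff_nontrivial.1
    (lt_of_lt_of_le hq.1.one_lt (Nat.le_of_dvd Nat.card_pos hqG))
  have hV : Cfsg.pCore p G ≠ ⊥ :=
    (PLocal.pCore_ne_bot_or_of_isPSolvable hps).resolve_right (not_not.2 hO)
  obtain ⟨N, hN, hNV, hN1, hmin⟩ := RealPDegree.exists_minimal_normal (S := Cfsg.pCore p G) hV
  have hNp : IsPGroup p N := (PLocal.isPGroup_pCore p G).to_le hNV
  haveI : Group.IsNilpotent N := hNp.isNilpotent
  haveI : Nontrivial N := (Subgroup.nontrivial_iff_ne_bot N).2 hN1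
  obtain ⟨hab, r, hr, hexp⟩ := RealPDegree.elementary_of_minimal hN1 inferInstance hmin
  have hrp : r = p := by
    obtain ⟨n, hn⟩ := exists_ne (1 : N)
    obtain ⟨i, hi⟩ := IsPGroup.iff_orderOf.1 hNp n
    have h1 : orderOf n ∣ r := orderOf_dvd_of_pow_eq_one
      (Subtype.ext (by rw [Subgroup.coe_pow, hexp n n.2, OneMemClass.coe_one]))
    rcases (Nat.dvd_prime hr).1 h1 with h | h
    · exact absurd (orderOf_eq_one_iff.1 h) hn
    · exact (Nat.prime_eq_prime_of_dvd_pow hr hp.1 (by rw [← hi, h]))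
  subst hrp
  obtain ⟨nN, hnN⟩ := IsPGroup.iff_card.1 hNp
  obtain ⟨hA₁, hB₁⟩ := ih N hN hN1
  obtain ⟨Pb, Qb, hPQb⟩ := exists_commuting hpq hA₁ hB₁
  let π := QuotientGroup.mk' N
  have hπ : Function.Surjective π := QuotientGroup.mk'_surjective N
  set A' := Cfsg.pPrimeCore r (G ⧸ N) with hA'
  set A := A'.comap π with hA
  have hNA : N ≤ A := fun n hn => by
    rw [hA, Subgroup.mem_comap, show π n = 1 from (QuotientGroup.eq_one_iff n).2 hn]
    exact one_mem _
  -- a complement of `N` in `A`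
  have hAcard : N.relIndex A = Nat.card A' := by
    have h1 : N.relIndex A = (⊥ : Subgroup (G ⧸ N)).relIndex (A.map π) := by
      rw [← Subgroup.relIndex_comap, MonoidHom.comap_bot, QuotientGroup.ker_mk']
    rw [h1, hA, Subgroup.map_comap_eq_self_of_surjective hπ, Subgroup.relIndex_bot_left]
  haveI : (N.subgroupOf A).Normal := Subgroup.normal_subgroupOf
  have hcopA : Nat.Coprime (Nat.card (N.subgroupOf A)) (N.subgroupOf A).index := by
    rw [Nat.card_congr (Subgroup.subgroupOfEquivOfLe hNA).toEquiv, hnN]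
    show Nat.Coprime _ (N.relIndex A)
    rw [hAcard]
    exact (PLocal.coprime_card_pPrimeCore r _).symm.pow_left _
  obtain ⟨K', hK'⟩ := Subgroup.exists_right_complement'_of_coprime hcopA
  set K := K'.map A.subtype with hKdef
  have hKA : K ≤ A := Subgroup.map_subtype_le _
  have hNK : N ⊔ K = A := by
    have h1 := congrArg (Subgroup.map A.subtype) hK'.sup_eq_top
    rwa [Subgroup.map_sup, Subgroup.map_subgroupOf_eq_of_le hNA, ← MonoidHom.range_eq_map,
      Subgroup.range_subtype] at h1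
  have hKcard : Nat.card K = Nat.card A' := by
    rw [hKdef, Subgroup.card_map_of_injective A.subtype_injective, ← hAcard]
    exact (hK'.symm.index_eq_card).symm
  have hKp : ¬ r ∣ Nat.card K := by
    rw [hKcard]; exact PLocal.not_dvd_iff_coprime.1 (PLocal.coprime_card_pPrimeCore r _)
  set H := Subgroup.normalizer (K : Set G) with hH
  have hKH : K ≤ H := Subgroup.le_normalizer
  have hfrat : H ⊔ N = ⊤ := by
    refine eq_top_iff.2 fun g _ => ?_
    have hAn : A.Normal := (inferInstance : A'.Normal).comap π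
    have hmap : N ⊔ MulAut.conj g • K = A := by
      have h1 : MulAut.conj g • (N ⊔ K) = MulAut.conj g • A := by rw [hNK]
      rwa [Subgroup.smul_sup, conj_smul_normal N, conj_smul_normal A] at h1
    have hcop : (Nat.card N).Coprime (Nat.card K) := by
      rw [hnN, hKcard]
      exact (PLocal.coprime_card_pPrimeCore r _).symm.pow_left _
    obtain ⟨n, hn, hnK⟩ := Coprime.exists_conj_eq_of_sup_eq (N := N) (H := K)
      (K := MulAut.conj g • K) (Subgroup.le_normalizer_of_normal.trans' le_top)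
      (Subgroup.le_normalizer_of_normal.trans' le_top) hcop
      (Nat.card_congr (Subgroup.equivSMul _ _).toEquiv.symm) (hNK.trans hmap.symm) (Or.inl inferInstance)
    have h2 : n⁻¹ * g ∈ H := by
      rw [hH, Subgroup.mem_normalizer_iff]
      intro z
      constructor
      · intro hz
        have h3 : g * z * g⁻¹ ∈ MulAut.conj n • K := by
          rw [hnK, mem_conj_smul_iff]; simpa [mul_assoc] using hz
        rw [mem_conj_smul_iff] at h3
        simpa [mul_assoc] using h3
      · intro hz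
        have h3 : n * (n⁻¹ * g * z * (n⁻¹ * g)⁻¹) * n⁻¹ ∈ MulAut.conj g • K := by
          rw [← hnK, mem_conj_smul_iff]; simpa [mul_assoc] using hz
        rw [mem_conj_smul_iff] at h3
        simpa [mul_assoc] using h3
    have := Subgroup.mul_mem _ (Subgroup.mem_sup_right (S := H) hn) (Subgroup.mem_sup_left h2)
    rwa [mul_inv_cancel_left] at this
  have hNC : N ≤ Subgroup.centralizer (N : Set G) := fun x hx =>
    Subgroup.mem_centralizer_iff.2 fun y hy => hab y hy x hx
  have hnormal : ∀ S : Subgroup G, H ≤ Subgroup.normalizer (S : Set G) →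
      N ≤ Subgroup.normalizer (S : Set G) → S.Normal := fun S h1 h2 => by
    rw [← Subgroup.normalizer_eq_top_iff, eq_top_iff, ← hfrat]; exact sup_le h1 h2
  have hNH : N ⊓ H = ⊥ := by
    refine (hmin _ ?_ inf_le_left).resolve_right fun h => ?_
    · refine hnormal _ ?_ (hNC.trans ((Subgroup.centralizer_le fun _ hx => hx.1).trans
        (Subgroup.centralizer_le_normalizer _)))
      exact le_trans (le_inf (le_top.trans Subgroup.le_normalizer_of_normal) Subgroup.le_normalizer)
        Subgroup.inf_normalizer_le_normalizer_inf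
    · rw [inf_eq_left] at h
      haveI hKn : K.Normal := hnormal K le_rfl h
      have hKbot : K = ⊥ := le_bot_iff.1
        ((PLocal.le_pPrimeCore (PLocal.not_dvd_iff_coprime.2 hKp)).trans (le_of_eq hO))
      have hAN : A = N := by rw [← hNK, hKbot, sup_bot_eq]
      have h1 : A'.index = N.index := by
        rw [← Subgroup.index_comap_of_surjective A' hπ, ← hA, hAN]
      rw [h1] at hA₁
      rw [← Subgroup.card_mul_index N, hnN] at hqG
      rcases hq.1.dvd_mul.1 hqG with h2 | h2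
      · exact hpq ((Nat.prime_dvd_prime_iff_eq hq.1 hp.1).1 (hq.1.dvd_of_dvd_pow h2)).symm
      · exact hA₁ h2
  -- `H` is isomorphic to the quotient
  have hbij : Function.Bijective (π.comp H.subtype) := by
    refine ⟨(injective_iff_map_eq_one _).2 fun x hx => ?_, fun z => ?_⟩
    · refine Subtype.ext (Subgroup.mem_bot.1 (hNH ▸ ?_))
      exact ⟨(QuotientGroup.eq_one_iff (x : G)).1 hx, x.2⟩
    · obtain ⟨g, rfl⟩ := hπ z
      have hg : g ∈ ((H : Set G) * (N : Set G) : Set G) := by
        rw [← Subgroup.mul_normal, hfrat]; trivial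
      obtain ⟨h, hh, n, hn, rfl⟩ := hg
      refine ⟨⟨h, hh⟩, ?_⟩
      show π h = π (h * n)
      rw [map_mul, show π n = 1 from (QuotientGroup.eq_one_iff n).2 hn, mul_one]
  let e : H ≃* G ⧸ N := MulEquiv.ofBijective _ hbij
  have heapply : ∀ x : H, e x = π x := fun _ => rfl
  let ρ : G →* H := e.symm.toMonoidHom.comp π
  have hρ : Function.Surjective ρ := e.symm.surjective.comp hπ
  have hρπ : ∀ g, π (ρ g : G) = π g := fun g => by
    rw [← heapply]; exact e.apply_symm_apply (π g)
  -- Sylow subgroups of `H`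
  let PS : Sylow r H := Pb.mapSurjective (f := e.symm.toMonoidHom) e.symm.surjective
  let QS : Sylow q H := Qb.mapSurjective (f := e.symm.toMonoidHom) e.symm.surjective
  have hPQ : ∀ x ∈ (PS : Subgroup H), ∀ y ∈ (QS : Subgroup H), x * y = y * x := by
    rintro _ ⟨x, hx, rfl⟩ _ ⟨y, hy, rfl⟩
    rw [← map_mul, ← map_mul, hPQb x hx y hy]
  haveI hKHn : (K.subgroupOf H).Normal := ⟨fun k hk h =>
    (Subgroup.mem_normalizer_iff.1 h.2 (k : G)).1 hk⟩
  have hKHp : ¬ r ∣ Nat.card (K.subgroupOf H) := by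
    rwa [Nat.card_congr (Subgroup.subgroupOfEquivOfLe hKH).toEquiv]
  have hQK : (QS : Subgroup H) ≤ K.subgroupOf H := by
    rintro _ ⟨z, hz, rfl⟩
    have hzA : z ∈ A' := (RealPDegree.le_pGen Qb.2).trans (RealPDegree.pGen_le hA₁) hz
    have hyA : ((e.symm z : H) : G) ∈ A := by
      rw [hA, Subgroup.mem_comap, ← heapply, e.apply_symm_apply]; exact hzA
    rw [← hNK] at hyA
    have hy' : ((e.symm z : H) : G) ∈ ((N : Set G) * (K : Set G) : Set G) := by
      rw [← Subgroup.normal_mul]; exact hyA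
    obtain ⟨n, hn, k, hk, hnk⟩ := hy'
    have hnk' : n * k = ((e.symm z : H) : G) := hnk
    have hn1 : n = 1 := by
      rw [← Subgroup.mem_bot, ← hNH]
      refine ⟨hn, ?_⟩
      rw [show n = ((e.symm z : H) : G) * k⁻¹ by rw [← hnk']; group]
      exact H.mul_mem (e.symm z).2 (H.inv_mem (hKH hk))
    show ((e.symm z : H) : G) ∈ K
    rw [← hnk', hn1, one_mul]
    exact hk
  -- every character of `H` of `p'`-degree has `q'`-degree
  have hall : AllPrime r q H := fun χ hχ => by
    have := hh ⟨fun g => (χ : H → ℂ) (ρ g), isIrr_comp ρ hρ χ.2⟩ (fun g hg => by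
        rw [hO, Subgroup.mem_bot] at hg; rw [hg]) (by simpa [Cfsg.charDegree] using hχ)
    simpa [Cfsg.charDegree] using this
  have hD := centralizer_le_normalizer r q (Nat.card H) H le_rfl
    (PLocal.isPSolvable_subgroup hqs H) hall (K.subgroupOf H) hKHn hKHp (PS : Subgroup H) PS.2
    PS.not_dvd_index QS hQK hPQ
  -- the linear characters fixed by `P` are fixed by `Q`
  set PH := (PS : Subgroup H).map H.subtype with hPH
  set QH := (QS : Subgroup H).map H.subtype with hQH
  letI : Fintype N := Fintype.ofFinite N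
  have hPfix : ∀ f : N →* ℂˣ, (∀ x ∈ PH, conjHom N x f = f) → ∀ y ∈ QH, conjHom N y f = f := by
    intro f hf
    have hf' : ∀ x ∈ PH, ∀ n : N, f (MulAut.conjNormal x n) = f n := fun x hx n => by
      have h1 := DFunLike.congr_fun (hf x⁻¹ (PH.inv_mem hx)) n
      rwa [conjHom_apply, inv_inv] at h1
    set W := (Pb : Subgroup (G ⧸ N)).comap π with hW
    have hWidx : ¬ r ∣ W.index := by
      rw [hW, Subgroup.index_comap_of_surjective _ hπ]; exact Pb.not_dvd_index
    have hρW : ∀ w ∈ W, (ρ w : G) ∈ PH := fun w hw => ⟨ρ w, ⟨π w, hw, rfl⟩, rfl⟩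
    have hmemN : ∀ w : G, w * (ρ w : G)⁻¹ ∈ N := fun w => by
      rw [← QuotientGroup.eq_one_iff]
      show π (w * (ρ w : G)⁻¹) = 1
      rw [map_mul, map_inv, hρπ, mul_inv_cancel]
    let φ : W →* ℂˣ :=
      { toFun := fun w => f ⟨(w : G) * (ρ (w : G) : G)⁻¹, hmemN _⟩
        map_one' := by
          rw [← map_one f]; exact congrArg f (Subtype.ext (by simp))
        map_mul' := fun a b => by
          rw [← hf' _ (hρW a a.2) ⟨(b : G) * (ρ (b : G) : G)⁻¹, hmemN _⟩, ← map_mul]
          refine congrArg f (Subtype.ext ?_)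
          simp [mul_assoc] }
    letI : Fintype W := Fintype.ofFinite W
    letI : Fintype G := Fintype.ofFinite G
    obtain ⟨χ, hχp, hχ⟩ := BlocksCharsC.exists_constituent_not_dvd W hWidx
      (isCharacter_of_isIrr (isIrr_linChar φ))
      (by simp [Cfsg.charDegree, hp.1.ne_one, eq_comm])
    have hχq : ¬ q ∣ Cfsg.charDegree (χ : G → ℂ) :=
      hh χ (fun g hg => by rw [hO, Subgroup.mem_bot] at hg; rw [hg]) hχp
    have hNW : N ≤ W := fun n hn => by
      rw [hW, Subgroup.mem_comap, show π n = 1 from (QuotientGroup.eq_one_iff n).2 hn]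
      exact one_mem _
    have hne : Cfsg.classInner (fun n : N => (χ : G → ℂ) n) (fun n : N => (f n : ℂ)) ≠ 0 := by
      refine Glauberman.classInner_ne_zero_trans (Subgroup.inclusion hNW)
        (isCharacter_restrict W (isCharacter_of_isIrr χ.2)) ⟨_, isIrr_linChar φ⟩
        ⟨_, isIrr_linChar f⟩ hχ ?_
      have hres : (fun n : N => ((φ (Subgroup.inclusion hNW n) : ℂˣ) : ℂ)) =
          fun n : N => (f n : ℂ) := by
        funext n
        refine congrArg Units.val (congrArg f (Subtype.ext ?_))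
        show (n : G) * (ρ (n : G) : G)⁻¹ = n
        rw [show ρ (n : G) = 1 by
          show e.symm (π n) = 1
          rw [show π (n : G) = 1 from (QuotientGroup.eq_one_iff (n : G)).2 n.2, map_one]]
        simp
      show Cfsg.classInner (fun n : N => ((φ (Subgroup.inclusion hNW n) : ℂˣ) : ℂ)) _ ≠ 0
      rw [hres, classInner_isIrr_self (isIrr_linChar f)]
      exact one_ne_zero
    have hQHp : IsPGroup q QH := QS.2.map _
    obtain ⟨g, hg⟩ := RealPDegree.exists_conj_fixed N χ.2 hχq (isIrr_linChar f) hne hQHp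
    -- the stabilizer
    set T := BlocksCharsC.conjStab N (fun n : N => (f n : ℂ)) with hT
    have hNT : N ≤ T := BlocksCharsC.le_conjStab N (isClassFunction_of_isIrr (isIrr_linChar f))
    have hPT : (PS : Subgroup H) ≤ T.subgroupOf H := fun x hx => by
      funext n
      refine congrArg Units.val ((congrArg f ?_).trans (hf' _ (Subgroup.mem_map_of_mem _ hx) n))
      exact Subtype.ext (by simp [MulAut.conjNormal_apply])
    have hgT : ∀ y ∈ QH, g * y * g⁻¹ ∈ T := fun y hy => by
      show conjBy N _ (g * y * g⁻¹) = _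
      have h1 := congrArg (fun F => conjBy N F g⁻¹) (hg _ hy)
      simp only [conjBy_mul] at h1
      rwa [mul_inv_cancel, conjBy_one] at h1
    obtain ⟨n₀, hn₀, h₀, hh₀, hgeq⟩ : ∃ n ∈ N, ∃ h ∈ H, n * h = g := by
      have hg' : g ∈ ((N : Set G) * (H : Set G) : Set G) := by
        rw [← Subgroup.normal_mul, sup_comm, hfrat]; trivial
      obtain ⟨n, hn, h, hh', hnh⟩ := hg'
      exact ⟨n, hn, h, hh', hnh⟩
    obtain ⟨c, hc, hcT⟩ := exists_conj_le (K.subgroupOf H) hKHp PS.2 QS hQK hPQ (T.subgroupOf H)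
      hPT (g := (⟨h₀, hh₀⟩ : H)) fun y hy => by
        have h1 := hgT y (Subgroup.mem_map_of_mem _ hy)
        rw [← hgeq] at h1
        have h2 := T.mul_mem (T.mul_mem (T.inv_mem (hNT hn₀)) h1) (hNT hn₀)
        rw [Subgroup.mem_subgroupOf]
        simpa [mul_assoc] using h2
    intro y hy
    obtain ⟨y', hy', rfl⟩ := hy
    have hcy : c * (c⁻¹ * y'⁻¹ * c) * c⁻¹ ∈ T.subgroupOf H :=
      hcT _ (((Subgroup.mem_normalizer_iff.1 (hD hc) _).2
        (by simpa [mul_assoc] using (QS : Subgroup H).inv_mem hy')))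
    rw [show c * (c⁻¹ * y'⁻¹ * c) * c⁻¹ = y'⁻¹ by group, Subgroup.mem_subgroupOf] at hcy
    ext n
    have h3 := congrFun (show conjBy N (fun n : N => (f n : ℂ)) ((y'⁻¹ : H) : G) = _ from hcy) n
    refine Eq.trans ?_ h3
    exact congrArg (fun z : N => ((f z : ℂˣ) : ℂ))
      (Subtype.ext (by simp [MulAut.conjNormal_apply]))
  have hQp : ¬ r ∣ Nat.card QH := by
    obtain ⟨i, hi⟩ := IsPGroup.iff_card.1 (QS.2.map H.subtype)
    intro hd
    rw [hQH, hi] at hd
    exact hpq ((Nat.prime_dvd_prime_iff_eq hp.1 hq.1).1 (hp.1.dvd_of_dvd_pow hd))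
  have hfix := fixed_of_fixed (p := r) N hexp (PS.2.map H.subtype) hQp (P := PH) (Q := QH)
    (by
      rintro _ ⟨x, hx, rfl⟩ _ ⟨y, hy, rfl⟩
      rw [← map_mul, ← map_mul, hPQ x hx y hy]) hPfix
  have hQC : ∀ y ∈ QH, y ∈ Subgroup.centralizer (N : Set G) := by
    intro y hy
    rw [Subgroup.mem_centralizer_iff]
    intro n hn
    by_contra hne
    obtain ⟨f, hf⟩ := RealPDegree.exists_hom_ne_one
      (fun a b : N => Subtype.ext (hab a a.2 b b.2))
      (a := MulAut.conjNormal y (⟨n, hn⟩ : N) * (⟨n, hn⟩ : N)⁻¹) fun h0 => hne (by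
        have := congrArg Subtype.val (mul_inv_eq_one.1 h0)
        calc n * y = (y * n * y⁻¹) * y := by rw [show y * n * y⁻¹ = n from this]
          _ = y * n := by group)
    refine hf ?_
    have h1 := DFunLike.congr_fun (hfix f y⁻¹ (QH.inv_mem hy)) ⟨n, hn⟩
    rw [conjHom_apply, inv_inv] at h1
    rw [map_mul, map_inv, h1, mul_inv_cancel]
  haveI hKC : (K ⊓ Subgroup.centralizer (N : Set G)).Normal := hnormal _
    (le_trans (le_inf (le_of_eq hH) (le_top.trans Subgroup.le_normalizer_of_normal))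
      Subgroup.inf_normalizer_le_normalizer_inf)
    ((le_trans (fun x hx => Subgroup.mem_centralizer_iff.2 fun z hz =>
        (Subgroup.mem_centralizer_iff.1 hz.2 x hx).symm) (Subgroup.centralizer_le_normalizer _)))
  have hbot : K ⊓ Subgroup.centralizer (N : Set G) = ⊥ := le_bot_iff.1
    ((PLocal.le_pPrimeCore (PLocal.not_dvd_iff_coprime.2
      fun h => hKp (h.trans (Subgroup.card_dvd_of_le inf_le_left)))).trans (le_of_eq hO))
  have hQbot : (QS : Subgroup H) = ⊥ := by
    rw [eq_bot_iff]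
    intro y hy
    rw [Subgroup.mem_bot]
    refine Subtype.ext ?_
    rw [OneMemClass.coe_one, ← Subgroup.mem_bot, ← hbot]
    exact ⟨hQK hy, hQC _ (Subgroup.mem_map_of_mem H.subtype hy)⟩
  have h1 := QS.not_dvd_index
  rw [hQbot, Subgroup.index_bot, Nat.card_congr e.toEquiv] at h1
  rw [Subgroup.card_eq_card_quotient_mul_card_subgroup N, hnN] at hqG
  rcases hq.1.dvd_mul.1 hqG with h2 | h2
  · exact h1 h2
  · exact hpq ((Nat.prime_dvd_prime_iff_eq hq.1 hp.1).1 (hq.1.dvd_of_dvd_pow h2)).symm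

/-- The main induction. -/
theorem index_conditions (p q : ℕ) [Fact p.Prime] [Fact q.Prime] (hpq : p ≠ q) :
    ∀ (b : ℕ) (G : Type u) [Group G] [Finite G], Nat.card G ≤ b → Cfsg.IsPSolvable p G →
    Cfsg.IsPSolvable q G → CoreHyp p q G → CoreHyp q p G →
    ¬ q ∣ (Cfsg.pPrimeCore p G).index ∧ ¬ p ∣ (Cfsg.pPrimeCore q G).index := by
  intro b
  induction b with
  | zero => intro G _ _ hb; exact absurd hb (Nat.not_le.2 Nat.card_pos)
  | succ b ih =>
    intro G _ _ hb hps hqs h1 h2
    have hrec : ∀ N : Subgroup G, ∀ _ : N.Normal, N ≠ ⊥ →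
        ¬ q ∣ (Cfsg.pPrimeCore p (G ⧸ N)).index ∧ ¬ p ∣ (Cfsg.pPrimeCore q (G ⧸ N)).index := by
      intro N hN hne
      refine ih (G ⧸ N) ?_ (PLocal.isPSolvable_quotient hps N) (PLocal.isPSolvable_quotient hqs N)
        (h1.map (QuotientGroup.mk'_surjective N)) (h2.map (QuotientGroup.mk'_surjective N))
      have h3 : 1 < Nat.card N := by
        haveI : Nontrivial N := (Subgroup.nontrivial_iff_ne_bot N).2 hne
        exact Finite.one_lt_card
      have h4 := Subgroup.card_eq_card_quotient_mul_card_subgroup N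
      have h5 : 0 < Nat.card (G ⧸ N) := Nat.card_pos
      nlinarith
    exact ⟨step hpq hps hqs h1 hrec,
      step hpq.symm hqs hps h2 fun N hN hne => (hrec N hN hne).symm⟩

end CfsgLib.PQBlocks
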