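import Cfsg.Agent.RealPDegree.Basic
import Cfsg.Agent.RelGlauberman.Correspondence
import Cfsg.Agent.Glauberman.Setting
import Cfsg.Agent.RealChars.Basic
import Cfsg.Agent.BlocksCharsC.DetExtension
import Cfsg.Agent.BlocksCharsC.Restriction
import Cfsg.Agent.BlocksCharsC.RealOddFiber
import Cfsg.Agent.Glauberman.Constituent
import Cfsg.Agent.Coprime.Action
import Cfsg.Agent.PLocal.PSolvable
import Cfsg.Agent.PLocal.Cores
import Cfsg.Agent.GroupBasics.Conjugates

/-!
# Characters of `p'`-degree with `q'`-degree: the centralizer of `P` normalizes `Q`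

Let `P`, `Q` be commuting Sylow `p`- and `q`-subgroups of a `q`-solvable group `H`, `K` a normal
`p'`-subgroup containing `Q`, and suppose every irreducible character of `p'`-degree of `H` has
`q'`-degree.  Then `C_K(P)` normalizes `Q`.
-/

set_option autoImplicit false
set_option linter.style.haveILetI false
set_option linter.unusedSectionVars false

namespace CfsgLib.PQBlocks

open CfsgLib.Characters CfsgLib.CharactersDeep
open CfsgLib.OddOrderChar (conjBy conjBy_one conjBy_mul conjBy_apply)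
open scoped Pointwise

universe u

variable {H : Type u} [Group H] [Finite H] {p q : ℕ}

/-- Every irreducible character of `p'`-degree has `q'`-degree. -/
def AllPrime (p q : ℕ) (H : Type u) [Group H] : Prop :=
  ∀ χ : Cfsg.IrrCharacter H, ¬ p ∣ Cfsg.charDegree (χ : H → ℂ) →
    ¬ q ∣ Cfsg.charDegree (χ : H → ℂ)

theorem AllPrime.map {H' : Type u} [Group H'] [Finite H'] {f : H →* H'}
    (hf : Function.Surjective f) (h : AllPrime p q H) : AllPrime p q H' := fun χ hχ => by
  have := h ⟨fun g => (χ : H' → ℂ) (f g), isIrr_comp f hf χ.2⟩ (by simpa [Cfsg.charDegree] using hχ)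
  simpa [Cfsg.charDegree] using this

theorem mem_conj_smul_iff {c y : H} {Q : Subgroup H} :
    y ∈ MulAut.conj c • Q ↔ c⁻¹ * y * c ∈ Q := by
  rw [Subgroup.mem_pointwise_smul_iff_inv_smul_mem]
  simp [MulAut.smul_def, mul_assoc]

/-- Two Sylow subgroups inside `K`, normalized by `P`, are conjugate under `C_K(P)`. -/
theorem exists_centralizer_conj [Fact p.Prime] [Fact q.Prime] {K P : Subgroup H}
    (hPK : P ≤ Subgroup.normalizer (K : Set H)) (hP : IsPGroup p P) (hK : ¬ p ∣ Nat.card K)
    {Q₀ Q₁ : Sylow q H} (h₀ : (Q₀ : Subgroup H) ≤ K) (h₁ : (Q₁ : Subgroup H) ≤ K)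
    (hP₀ : P ≤ Subgroup.normalizer ((Q₀ : Subgroup H) : Set H))
    (hP₁ : P ≤ Subgroup.normalizer ((Q₁ : Subgroup H) : Set H)) :
    ∃ c ∈ K ⊓ Subgroup.centralizer (P : Set H),
      MulAut.conj c • (Q₀ : Subgroup H) = (Q₁ : Subgroup H) := by
  obtain ⟨k, hk, hkQ⟩ := Coprime.exists_conj_map_sylow (Q₀.subtype h₀) (Q₁.subtype h₁)
  simp only [Sylow.coe_subtype, Subgroup.subgroupOf_map_subtype, inf_of_le_left h₀,
    inf_of_le_left h₁] at hkQ
  haveI : Group.IsNilpotent P := hP.isNilpotent
  obtain ⟨n, hn⟩ := IsPGroup.iff_card.1 hP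
  exact Coprime.exists_conj_eq_of_invariant hPK
    (hn ▸ Nat.Coprime.pow_left n (((Fact.out : p.Prime).coprime_iff_not_dvd).2 hK))
    (Or.inl inferInstance) hP₀ hP₁ hk hkQ

theorem le_normalizer_of_commute {P Q : Subgroup H} (h : ∀ x ∈ P, ∀ y ∈ Q, x * y = y * x) :
    P ≤ Subgroup.normalizer (Q : Set H) := fun x hx => by
  refine Subgroup.centralizer_le_normalizer _ ?_
  exact Subgroup.mem_centralizer_iff.2 fun y hy => (h x hx y hy).symm

/-- A subgroup containing `P` and a conjugate of `Q` contains a `C_K(P)`-conjugate of `Q`. -/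
theorem exists_conj_le [Fact p.Prime] [Fact q.Prime] (K : Subgroup H) [K.Normal]
    (hK : ¬ p ∣ Nat.card K) {P : Subgroup H} (hP : IsPGroup p P) (QS : Sylow q H)
    (hQK : (QS : Subgroup H) ≤ K) (hPQ : ∀ x ∈ P, ∀ y ∈ (QS : Subgroup H), x * y = y * x)
    (T : Subgroup H) (hPT : P ≤ T) {g : H}
    (hgT : ∀ y ∈ (QS : Subgroup H), g * y * g⁻¹ ∈ T) :
    ∃ c ∈ K ⊓ Subgroup.centralizer (P : Set H), ∀ y ∈ (QS : Subgroup H), c * y * c⁻¹ ∈ T := by
  have hle : ((MulAut.conj g • QS : Sylow q H) : Subgroup H) ≤ T ⊓ K := by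
    intro y hy
    rw [Sylow.pointwise_smul_def, mem_conj_smul_iff] at hy
    constructor
    · have := hgT _ hy
      simpa [mul_assoc] using this
    · have := (inferInstance : K.Normal).conj_mem _ (hQK hy) g
      simpa [mul_assoc] using this
  have hPn : P ≤ Subgroup.normalizer ((T ⊓ K : Subgroup H) : Set H) := fun x hx =>
    Subgroup.inf_normalizer_le_normalizer_inf
      (Subgroup.mem_inf.2 ⟨Subgroup.le_normalizer (hPT hx),
        (Subgroup.le_normalizer_of_normal (H := K)) (Subgroup.mem_top x)⟩)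
  haveI : Group.IsNilpotent P := hP.isNilpotent
  have hcop : (Nat.card P).Coprime (Nat.card ↥(T ⊓ K)) := by
    obtain ⟨n, hn⟩ := IsPGroup.iff_card.1 hP
    rw [hn]
    exact Nat.Coprime.pow_left n (((Fact.out : p.Prime).coprime_iff_not_dvd).2
      fun h => hK (h.trans (Subgroup.card_dvd_of_le inf_le_right)))
  obtain ⟨R, hR⟩ := Coprime.exists_invariant_sylow hPn hcop (Or.inl inferInstance) q
  obtain ⟨t, ht, htR⟩ :=
    Coprime.exists_conj_map_sylow ((MulAut.conj g • QS : Sylow q H).subtype hle) R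
  rw [Sylow.coe_subtype, Subgroup.subgroupOf_map_subtype, inf_of_le_left hle,
    Sylow.pointwise_smul_def, ← mul_smul, ← map_mul] at htR
  have h1 : ((MulAut.conj (t * g) • QS : Sylow q H) : Subgroup H) =
      (R : Subgroup ↥(T ⊓ K)).map (T ⊓ K).subtype := by rw [Sylow.pointwise_smul_def, htR]
  have h1le : ((MulAut.conj (t * g) • QS : Sylow q H) : Subgroup H) ≤ T ⊓ K :=
    h1.trans_le (Subgroup.map_subtype_le _)
  obtain ⟨c, hc, hcQ⟩ := exists_centralizer_conj (Subgroup.le_normalizer_of_normal.trans' le_top)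
    hP hK hQK (h1le.trans inf_le_right) (le_normalizer_of_commute hPQ) (by rw [h1]; exact hR)
  refine ⟨c, hc, fun y hy => ?_⟩
  refine (h1le (hcQ ▸ ?_)).1
  rw [mem_conj_smul_iff]
  simpa [mul_assoc] using hy

/-- A character of `q'`-degree over a `P`-invariant character makes a `C_K(P)`-conjugate of `Q` fix
it. -/
theorem exists_conj_fixes [Fact p.Prime] [Fact q.Prime] (K : Subgroup H) [K.Normal]
    (hK : ¬ p ∣ Nat.card K) {P : Subgroup H} (hP : IsPGroup p P) (QS : Sylow q H)
    (hQK : (QS : Subgroup H) ≤ K) (hPQ : ∀ x ∈ P, ∀ y ∈ (QS : Subgroup H), x * y = y * x)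
    (L : Subgroup H) [L.Normal] [Fintype L] {θ : L → ℂ} (hθ : Cfsg.IsIrrCharacter L θ)
    (hPθ : ∀ x ∈ P, conjBy L θ x = θ) {χ : H → ℂ} (hχ : Cfsg.IsIrrCharacter H χ)
    (hχq : ¬ q ∣ Cfsg.charDegree χ) (hne : Cfsg.classInner (fun n : L => χ n) θ ≠ 0) :
    ∃ c ∈ K ⊓ Subgroup.centralizer (P : Set H),
      ∀ y ∈ (QS : Subgroup H), conjBy L θ (c * y * c⁻¹) = θ := by
  obtain ⟨g, hg⟩ := RealPDegree.exists_conj_fixed L hχ hχq hθ hne QS.2
  refine exists_conj_le K hK hP QS hQK hPQ (BlocksCharsC.conjStab L θ) (fun x hx => hPθ x hx)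
    (g := g) fun y hy => ?_
  show conjBy L θ (g * y * g⁻¹) = θ
  have h1 := congrArg (fun F => conjBy L F g⁻¹) (hg _ hy)
  simp only [conjBy_mul] at h1
  rwa [mul_inv_cancel, conjBy_one] at h1

/-- An extension to `L P` and a constituent above it of `p'`-degree. -/
theorem exists_prime_degree_over [hp : Fact p.Prime] (L : Subgroup H) [L.Normal] [Fintype L]
    (hL : ¬ p ∣ Nat.card L) {P : Subgroup H} (hP : IsPGroup p P) (hPidx : ¬ p ∣ P.index)
    {θ : L → ℂ} (hθ : Cfsg.IsIrrCharacter L θ) (hPθ : ∀ x ∈ P, conjBy L θ x = θ) :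
    ∃ χ : Cfsg.IrrCharacter H, ¬ p ∣ Cfsg.charDegree (χ : H → ℂ) ∧
      Cfsg.classInner (fun n : L => (χ : H → ℂ) n) θ ≠ 0 := by
  classical
  letI : Fintype H := Fintype.ofFinite H
  set J := L ⊔ P with hJ
  haveI : (L.subgroupOf J).Normal := Subgroup.normal_subgroupOf
  let E : L.subgroupOf J ≃* L := Subgroup.subgroupOfEquivOfLe le_sup_left
  have hJidx : ¬ p ∣ J.index := fun h => hPidx (h.trans (Subgroup.index_dvd_of_le le_sup_right))
  have hq : IsPGroup p (J ⧸ L.subgroupOf J) := by
    obtain ⟨n, hn⟩ := IsPGroup.iff_card.1 hP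
    have h1 : (L.subgroupOf J).index ∣ p ^ n := by
      rw [← hn]
      show L.relIndex J ∣ _
      rw [hJ, sup_comm, Subgroup.relIndex_sup_right]
      exact Subgroup.relIndex_dvd_card _ _
    obtain ⟨i, -, hi⟩ := (Nat.dvd_prime_pow hp.1).1 h1
    exact IsPGroup.of_card (n := i) (by rw [← hi, Subgroup.index])
  have hT : J ≤ BlocksCharsC.conjStab L θ :=
    sup_le (BlocksCharsC.le_conjStab L (isClassFunction_of_isIrr hθ)) fun x hx => hPθ x hx
  have hθ' : Cfsg.IsIrrCharacter (L.subgroupOf J) fun x => θ (E x) :=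
    isIrr_comp E.toMonoidHom E.surjective hθ
  obtain ⟨d, hd, hdL⟩ : ∃ d : ℕ, θ 1 = d ∧ d ∣ Nat.card L := by
    obtain ⟨n, ρ, hρ, hρθ⟩ := id hθ
    exact ⟨_, by rw [← hρθ, Representation.char_one], finrank_dvd_card ρ⟩
  have hθp : ¬ p ∣ Cfsg.charDegree fun x => θ (E x) := by
    rw [Cfsg.charDegree, map_one, hd, Complex.natCast_re, Nat.floor_natCast]
    exact fun h => hL (h.trans hdL)
  obtain ⟨η, hη, -, hres, -⟩ := BlocksCharsC.exists_canonical
    (o := Nat.card (L.subgroupOf J))
    (by rw [Nat.card_congr E.toEquiv]; exact (hp.1.coprime_iff_not_dvd.2 hL).symm)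
    (L.subgroupOf J) hq hθ'
    (BlocksCharsC.detExp_of_hom (fun f g => by rw [← map_pow, pow_card_eq_one', map_one])
      (isCharacter_of_isIrr hθ'))
    (fun j => funext fun x => by
      have h2 := congrFun (show conjBy L θ (j : H) = θ from hT j.2) (E x)
      exact h2) hθp
  have hres' : (fun n : L => η ⟨n, le_sup_left (b := P) n.2⟩) = θ := funext fun n => by
    have h := hres (E.symm n)
    rw [MulEquiv.apply_symm_apply] at h
    rw [← h]
    exact congrArg η (Subtype.ext rfl)
  obtain ⟨χ, hχp, hχ⟩ := BlocksCharsC.exists_constituent_not_dvd J hJidx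
    (isCharacter_of_isIrr hη) (by
      rw [Cfsg.charDegree, show η 1 = θ 1 from congrFun hres' 1, hd, Complex.natCast_re,
        Nat.floor_natCast]
      exact fun h => hL (h.trans hdL))
  refine ⟨χ, hχp, Glauberman.classInner_ne_zero_trans
    (Subgroup.inclusion (le_sup_left : L ≤ J)) (isCharacter_restrict J (isCharacter_of_isIrr χ.2))
    ⟨η, hη⟩ ⟨θ, hθ⟩ hχ ?_⟩
  show Cfsg.classInner (fun n : L => η ⟨n, le_sup_left (b := P) n.2⟩) θ ≠ 0
  rw [hres', classInner_isIrr_self hθ]
  exact one_ne_zero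

/-- A subgroup fixing every irreducible character of a coprime group centralizes it. -/
theorem centralizes_of_fixes [Fact q.Prime] {C Q : Subgroup H} (hQ : IsPGroup q Q)
    (hC : ¬ q ∣ Nat.card C) (hn : RelGlauberman.Normalises Q C)
    (hfix : ∀ (y : Q) (ξ : Cfsg.IrrCharacter C), (RelGlauberman.irrAction hn).smul y ξ = ξ) :
    ∀ y ∈ Q, ∀ c ∈ C, y * c = c * y := by
  classical
  letI : Fintype C := Fintype.ofFinite C
  letI := Glauberman.conjAction C Q hn
  have hcls : ∀ (y : Q) (z : C), IsConj (RelGlauberman.conjAutInv hn y z) z := by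
    intro y
    have h := RealChars.card_fixed_eq (fun z => RelGlauberman.conjAutInv hn y z)
      (fun {a b} hab => (RelGlauberman.conjAutInv hn y).toMonoidHom.map_isConj hab)
      (fun χ hχ => isIrr_comp (RelGlauberman.conjAutInv hn y).toMonoidHom
        (RelGlauberman.conjAutInv hn y).surjective hχ)
    have hall : ∀ χ : Cfsg.IrrCharacter C,
        (χ : C → ℂ) ∘ (fun z => RelGlauberman.conjAutInv hn y z) = χ := fun χ => by
      conv_rhs => rw [← hfix y χ]
      funext z
      rfl
    rw [Nat.card_congr (Equiv.subtypeUnivEquiv hall), card_irrCharacter] at h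
    have hs : Function.Surjective
        (Subtype.val : {C' : ConjClasses C // ∀ z, ConjClasses.mk z = C' →
          IsConj (RelGlauberman.conjAutInv hn y z) z} → ConjClasses C) :=
      (Subtype.val_injective.bijective_of_nat_card_le (le_of_eq h)).2
    intro z
    obtain ⟨⟨C', hC'⟩, rfl⟩ := hs (ConjClasses.mk z)
    exact hC' z rfl
  let F : Subgroup C :=
    { carrier := {z | ∀ s : Q, s • z = z}
      one_mem' := fun s => smul_one s
      mul_mem' := fun {a b} ha hb s => by rw [smul_mul', ha s, hb s]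
      inv_mem' := fun {a} ha s => by rw [smul_inv', ha s] }
  have hF : F = ⊤ := GroupBasics.eq_top_of_forall_conj_mem fun z => by
    obtain ⟨c, hc⟩ := Glauberman.exists_fixed_isConj (P := Q) (G := C) hQ hC F (fun _ => Iff.rfl)
      (g := z) (fun s => by
        rw [show s • z = RelGlauberman.conjAutInv hn s⁻¹ z from
          Subtype.ext (show (s : H) * z * (s : H)⁻¹ = ((s⁻¹ : Q) : H)⁻¹ * z * ((s⁻¹ : Q) : H) by simp)]
        exact (hcls s⁻¹ z).symm)
    obtain ⟨a, ha⟩ := isConj_iff.1 hc
    exact ⟨a, ha ▸ c.2⟩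
  intro y hy c hc
  have h1 : (⟨c, hc⟩ : C) ∈ F := hF ▸ Subgroup.mem_top _
  have h2 : y * c * y⁻¹ = c := congrArg Subtype.val (h1 ⟨y, hy⟩)
  exact mul_inv_eq_iff_eq_mul.1 h2

/-- `C_K(P)` normalizes `Q`. -/
theorem centralizer_le_normalizer (p q : ℕ) [hp : Fact p.Prime] [hq : Fact q.Prime] :
    ∀ (b : ℕ) (H : Type u) [Group H] [Finite H], Nat.card H ≤ b → Cfsg.IsPSolvable q H →
    AllPrime p q H → ∀ (K : Subgroup H), K.Normal → ¬ p ∣ Nat.card K →
    ∀ (P : Subgroup H), IsPGroup p P → ¬ p ∣ P.index →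
    ∀ (QS : Sylow q H), (QS : Subgroup H) ≤ K →
    (∀ x ∈ P, ∀ y ∈ (QS : Subgroup H), x * y = y * x) →
    K ⊓ Subgroup.centralizer (P : Set H) ≤ Subgroup.normalizer ((QS : Subgroup H) : Set H) := by
  intro b
  induction b with
  | zero => intro H _ _ hb; exact absurd hb (Nat.not_le.2 Nat.card_pos)
  | succ b ih =>
    intro H _ _ hb hsolv hall K hKn hK P hP hPidx QS hQK hPQ
    haveI := hKn
    by_cases hK1 : K = ⊥
    · rw [hK1, bot_inf_eq]; exact bot_le
    haveI : Nontrivial K := (Subgroup.nontrivial_iff_ne_bot K).2 hK1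
    obtain ⟨L, hLn, hLK, hL1, hLcase⟩ : ∃ L : Subgroup H, L.Normal ∧ L ≤ K ∧ L ≠ ⊥ ∧
        (IsPGroup q L ∨ ¬ q ∣ Nat.card L) := by
      rcases PLocal.pCore_ne_bot_or_of_isPSolvable (p := q) (PLocal.isPSolvable_subgroup hsolv K)
        with h | h
      · exact ⟨_, PLocal.normal_map_subtype K (Cfsg.pCore q K), Subgroup.map_subtype_le _,
          fun h0 => h ((Subgroup.map_eq_bot_iff_of_injective _ K.subtype_injective).1 h0),
          Or.inl ((PLocal.isPGroup_pCore q K).map _)⟩
      · refine ⟨_, PLocal.normal_map_subtype K (Cfsg.pPrimeCore q K), Subgroup.map_subtype_le _,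
          fun h0 => h ((Subgroup.map_eq_bot_iff_of_injective _ K.subtype_injective).1 h0),
          Or.inr ?_⟩
        rw [Subgroup.card_map_of_injective K.subtype_injective]
        exact PLocal.not_dvd_iff_coprime.1 (PLocal.coprime_card_pPrimeCore q K)
    haveI := hLn
    intro c hc
    -- in the quotient
    let π := QuotientGroup.mk' L
    have hπ : Function.Surjective π := QuotientGroup.mk'_surjective L
    have hQidx : ¬ q ∣ ((QS : Subgroup H).map π).index := fun h =>
      QS.not_dvd_index (h.trans (Subgroup.index_map_dvd _ hπ))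
    have hih : π c ∈ Subgroup.normalizer (((QS : Subgroup H).map π : Subgroup (H ⧸ L)) : Set (H ⧸ L)) := by
      refine ih (H ⧸ L) ?_ (PLocal.isPSolvable_quotient hsolv L) (hall.map hπ) (K.map π)
        (hKn.map π hπ) (fun h => hK (h.trans (Subgroup.card_map_dvd _ _))) (P.map π) (hP.map π)
        (fun h => hPidx (h.trans (Subgroup.index_map_dvd _ hπ)))
        ((QS.2.map π).toSylow hQidx) (Subgroup.map_mono hQK) ?_ ⟨Subgroup.mem_map_of_mem π hc.1, ?_⟩
      · have h1 : 1 < Nat.card L := by
          haveI : Nontrivial L := (Subgroup.nontrivial_iff_ne_bot L).2 hL1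
          exact Finite.one_lt_card
        have h2 := Subgroup.card_eq_card_quotient_mul_card_subgroup L
        have h3 : 0 < Nat.card (H ⧸ L) := Nat.card_pos
        nlinarith
      · rintro _ ⟨x, hx, rfl⟩ _ ⟨y, hy, rfl⟩
        rw [← map_mul, ← map_mul, hPQ x hx y hy]
      · refine Subgroup.mem_centralizer_iff.2 ?_
        rintro _ ⟨x, hx, rfl⟩
        rw [← map_mul, ← map_mul, Subgroup.mem_centralizer_iff.1 hc.2 x hx]
    have hnQL : c ∈ Subgroup.normalizer (((QS : Subgroup H) ⊔ L : Subgroup H) : Set H) := by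
      rw [show (QS : Subgroup H) ⊔ L = ((QS : Subgroup H).map π).comap π by
          rw [Subgroup.comap_map_eq, QuotientGroup.ker_mk'],
        ← Subgroup.comap_normalizer_eq_of_surjective _ hπ]
      exact hih
    rcases hLcase with hLq | hLq
    · rwa [sup_eq_left.2 (hLq.le_sylow_of_normal QS)] at hnQL
    -- the `q'` case
    have hLp : ¬ p ∣ Nat.card L := fun h => hK (h.trans (Subgroup.card_dvd_of_le hLK))
    letI : Fintype L := Fintype.ofFinite L
    have hPL : RelGlauberman.Normalises P L := fun x _ l hl => hLn.conj_mem l hl x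
    have hQL : RelGlauberman.Normalises (QS : Subgroup H) L := fun x _ l hl => hLn.conj_mem l hl x
    -- conjugation by `C_K(P)` reduces to `C_L(P)`
    have hred : ∀ d ∈ K ⊓ Subgroup.centralizer (P : Set H),
        d ∈ Subgroup.normalizer (((QS : Subgroup H) ⊔ L : Subgroup H) : Set H) →
        ∃ l ∈ L ⊓ Subgroup.centralizer (P : Set H),
          MulAut.conj l • (QS : Subgroup H) = MulAut.conj d • (QS : Subgroup H) := by
      intro d hd hdn
      have hd_le : ((MulAut.conj d • QS : Sylow q H) : Subgroup H) ≤ (QS : Subgroup H) ⊔ L := by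
        rw [Sylow.pointwise_smul_def]
        intro y hy
        rw [mem_conj_smul_iff] at hy
        have := (Subgroup.mem_normalizer_iff.1 hdn _).1 (Subgroup.mem_sup_left hy)
        simpa [mul_assoc] using this
      obtain ⟨w, hw, hwQ⟩ := Coprime.exists_conj_map_sylow
        (QS.subtype (le_sup_left : (QS : Subgroup H) ≤ (QS : Subgroup H) ⊔ L))
        ((MulAut.conj d • QS : Sylow q H).subtype hd_le)
      simp only [Sylow.coe_subtype, Subgroup.subgroupOf_map_subtype, inf_of_le_left hd_le,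
        inf_of_le_left (le_sup_left : (QS : Subgroup H) ≤ (QS : Subgroup H) ⊔ L)] at hwQ
      have hw' : w ∈ ((L : Set H) * ((QS : Subgroup H) : Set H) : Set H) := by
        rw [← Subgroup.normal_mul, sup_comm]; exact hw
      obtain ⟨l, hl, y, hy, rfl⟩ := hw'
      have hyQ : MulAut.conj y • (QS : Subgroup H) = (QS : Subgroup H) := by
        ext z
        rw [mem_conj_smul_iff]
        constructor
        · intro hz
          have := (QS : Subgroup H).mul_mem ((QS : Subgroup H).mul_mem hy hz)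
            ((QS : Subgroup H).inv_mem hy)
          simpa [mul_assoc] using this
        · intro hz
          exact (QS : Subgroup H).mul_mem
            ((QS : Subgroup H).mul_mem ((QS : Subgroup H).inv_mem hy) hz) hy
      rw [map_mul, mul_smul, hyQ, Sylow.pointwise_smul_def] at hwQ
      have hPd : P ≤ Subgroup.normalizer ((MulAut.conj d • (QS : Subgroup H) : Subgroup H) : Set H) := by
        refine le_normalizer_of_commute fun x hx z hz => ?_
        rw [mem_conj_smul_iff] at hz
        have h1 : x * d = d * x := Subgroup.mem_centralizer_iff.1 hd.2 x hx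
        calc x * z = (x * d) * (d⁻¹ * z * d) * d⁻¹ := by group
          _ = d * (x * (d⁻¹ * z * d)) * d⁻¹ := by rw [h1]; group
          _ = d * (d⁻¹ * z * d * x) * d⁻¹ := by rw [hPQ x hx _ hz]
          _ = z * ((d * x) * d⁻¹) := by group
          _ = z * x := by rw [← h1]; group
      haveI : Group.IsNilpotent P := hP.isNilpotent
      obtain ⟨n, hn⟩ := IsPGroup.iff_card.1 hP
      exact Coprime.exists_conj_eq_of_invariant (Subgroup.le_normalizer_of_normal.trans' le_top)
        (hn ▸ Nat.Coprime.pow_left n (hp.1.coprime_iff_not_dvd.2 hLp)) (Or.inl inferInstance)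
        (le_normalizer_of_commute hPQ) hPd hl hwQ
    -- `Q` fixes the `P`-invariant characters of `L`
    have hfixθ : ∀ θ : Cfsg.IrrCharacter L, RelGlauberman.PInv P L (θ : L → ℂ) →
        ∀ y ∈ (QS : Subgroup H), conjBy L (θ : L → ℂ) y = θ := by
      intro θ hθ
      have hPθ : ∀ x ∈ P, conjBy L (θ : L → ℂ) x = θ := fun x hx =>
        funext fun k => hθ x hx k _ rfl
      obtain ⟨χ, hχp, hχ⟩ := exists_prime_degree_over L hLp hP hPidx θ.2 hPθ
      obtain ⟨d, hd, hdQ⟩ := exists_conj_fixes K hK hP QS hQK hPQ L θ.2 hPθ χ.2 (hall χ hχp) hχ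
      have hdn : d ∈ Subgroup.normalizer (((QS : Subgroup H) ⊔ L : Subgroup H) : Set H) := by
        have hih' : π d ∈ Subgroup.normalizer
            (((QS : Subgroup H).map π : Subgroup (H ⧸ L)) : Set (H ⧸ L)) := by
          refine ih (H ⧸ L) ?_ (PLocal.isPSolvable_quotient hsolv L) (hall.map hπ) (K.map π)
            (hKn.map π hπ) (fun h => hK (h.trans (Subgroup.card_map_dvd _ _))) (P.map π) (hP.map π)
            (fun h => hPidx (h.trans (Subgroup.index_map_dvd _ hπ)))
            ((QS.2.map π).toSylow hQidx) (Subgroup.map_mono hQK) ?_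
            ⟨Subgroup.mem_map_of_mem π hd.1, ?_⟩
          · have h1 : 1 < Nat.card L := by
              haveI : Nontrivial L := (Subgroup.nontrivial_iff_ne_bot L).2 hL1
              exact Finite.one_lt_card
            have h2 := Subgroup.card_eq_card_quotient_mul_card_subgroup L
            have h3 : 0 < Nat.card (H ⧸ L) := Nat.card_pos
            nlinarith
          · rintro _ ⟨x, hx, rfl⟩ _ ⟨y, hy, rfl⟩
            rw [← map_mul, ← map_mul, hPQ x hx y hy]
          · refine Subgroup.mem_centralizer_iff.2 ?_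
            rintro _ ⟨x, hx, rfl⟩
            rw [← map_mul, ← map_mul, Subgroup.mem_centralizer_iff.1 hd.2 x hx]
        rw [show (QS : Subgroup H) ⊔ L = ((QS : Subgroup H).map π).comap π by
            rw [Subgroup.comap_map_eq, QuotientGroup.ker_mk'],
          ← Subgroup.comap_normalizer_eq_of_surjective _ hπ]
        exact hih'
      obtain ⟨l, hl, hlQ⟩ := hred d hd hdn
      intro y hy
      have h1 : d⁻¹ * (l * y * l⁻¹) * d ∈ (QS : Subgroup H) := by
        rw [← mem_conj_smul_iff, ← hlQ, mem_conj_smul_iff]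
        simpa [mul_assoc] using hy
      have h2 := hdQ _ h1
      rw [show d * (d⁻¹ * (l * y * l⁻¹) * d) * d⁻¹ = l * y * l⁻¹ by group] at h2
      have hlT := BlocksCharsC.le_conjStab L (isClassFunction_of_isIrr θ.2) hl.1
      have h3 : l * y * l⁻¹ ∈ BlocksCharsC.conjStab L (θ : L → ℂ) := h2
      have h4 := Subgroup.mul_mem _ (Subgroup.mul_mem _ (Subgroup.inv_mem _ hlT) h3) hlT
      rw [show l⁻¹ * (l * y * l⁻¹) * l = y by group] at h4
      exact h4
    -- hence it centralizes `C_L(P)`
    set C := L ⊓ Subgroup.centralizer (P : Set H) with hC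
    have hfixmod : RelGlauberman.IsFixedMod P L ⊥ C := by
      intro k
      simp only [hC, Subgroup.mem_inf, Subgroup.mem_centralizer_iff, Subgroup.mem_bot,
        SetLike.mem_coe, mul_inv_eq_iff_eq_mul, one_mul]
    obtain ⟨f, hf⟩ := (RelGlauberman.hasCorr_iff hfixmod.le).1
      (RelGlauberman.relative_glauberman P L ⊥ C hP hPL
        (fun x _ l hl => by rw [Subgroup.mem_bot] at hl ⊢; rw [hl, mul_one, mul_inv_cancel]) bot_le
        (fun k _ l hl => by rw [Subgroup.mem_bot] at hl ⊢; rw [hl, mul_one, mul_inv_cancel])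
        (by rw [Subgroup.relIndex_bot_left]; exact hLp) hfixmod)
    have hQC : RelGlauberman.Normalises (QS : Subgroup H) C := fun y hy k hk => by
      refine ⟨hLn.conj_mem k hk.1 y, Subgroup.mem_centralizer_iff.2 fun x hx => ?_⟩
      have h1 := hPQ x hx y hy
      have h2 : x * k = k * x := Subgroup.mem_centralizer_iff.1 hk.2 x hx
      have h3 : x * y⁻¹ = y⁻¹ * x := hPQ x hx _ ((QS : Subgroup H).inv_mem hy)
      calc x * (y * k * y⁻¹) = (x * y) * k * y⁻¹ := by group
        _ = y * (x * k) * y⁻¹ := by rw [h1]; group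
        _ = y * k * (x * y⁻¹) := by rw [h2]; group
        _ = y * k * y⁻¹ * x := by rw [h3]; group
    have hQfix : ∀ (y : (QS : Subgroup H)) (ξ : Cfsg.IrrCharacter C),
        (RelGlauberman.irrAction hQC).smul y ξ = ξ := by
      intro y ξ
      have hinv : ∀ ξ' : Cfsg.IrrCharacter C, RelGlauberman.PInv P C (ξ' : C → ℂ) := by
        intro ξ' x hx k k' hk
        refine congrArg (ξ' : C → ℂ) (Subtype.ext ?_)
        rw [hk, Subgroup.mem_centralizer_iff.1 k.2.2 x hx, mul_inv_cancel_right]
      set θ := f.symm ⟨ξ, hinv ξ⟩ with hθ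
      have hyθ : (RelGlauberman.irrAction hQL).smul y θ.1 = θ.1 := by
        refine Subtype.ext (funext fun k => ?_)
        rw [RelGlauberman.irrAction_apply]
        conv_rhs => rw [← hfixθ θ.1 θ.2 (y : H)⁻¹ ((QS : Subgroup H).inv_mem y.2)]
        exact congrArg (θ.1 : L → ℂ) (Subtype.ext (by simp [RelGlauberman.conjAutInv]))
      have h1 : RelGlauberman.multNat hfixmod.le θ.1 ((RelGlauberman.irrAction hQC).smul y ξ) =
          RelGlauberman.multNat hfixmod.le θ.1 ξ := by
        conv_lhs => rw [← hyθ]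
        exact RelGlauberman.multNat_smul _ _ _ _ _ _
      by_contra hne
      have h2 := (hf θ ⟨_, hinv ((RelGlauberman.irrAction hQC).smul y ξ)⟩).2 fun he =>
        hne (by rw [hθ, Equiv.apply_symm_apply] at he; exact congrArg Subtype.val he)
      rw [h1] at h2
      rcases (hf θ ⟨ξ, hinv ξ⟩).1 (by rw [hθ, Equiv.apply_symm_apply]) with h3 | h3
      · exact one_ne_zero (h3.symm.trans h2)
      · exact neg_ne_zero.2 one_ne_zero (h3.symm.trans h2)
    have hcent := centralizes_of_fixes QS.2
      (fun h => hLq (h.trans (Subgroup.card_dvd_of_le inf_le_left))) hQC hQfix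
    obtain ⟨l, hl, hlQ⟩ := hred c hc hnQL
    have hlfix : MulAut.conj l • (QS : Subgroup H) = (QS : Subgroup H) := by
      ext z
      rw [mem_conj_smul_iff]
      constructor
      · intro hz
        have h1 := hcent _ hz l hl
        have h2 : z = l⁻¹ * z * l := by
          calc z = l * (l⁻¹ * z * l) * l⁻¹ := by group
            _ = l⁻¹ * z * l := by rw [← h1]; group
        exact h2 ▸ hz
      · intro hz
        rw [show l⁻¹ * z * l = z by
          rw [mul_assoc, hcent z hz l hl, inv_mul_cancel_left]]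
        exact hz
    rw [hlfix] at hlQ
    refine Subgroup.mem_normalizer_iff.2 fun z => ⟨fun hz => ?_, fun hz => ?_⟩
    · rw [hlQ, mem_conj_smul_iff]
      simpa [mul_assoc] using hz
    · rw [hlQ, mem_conj_smul_iff] at hz
      simpa [mul_assoc] using hz

end CfsgLib.PQBlocks
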